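import Groth.Agent.H7Lim.FPDescent.Model
import Groth.Agent.H7Lim.RelAmpleDescent
import Groth.Agent.H17.ConsPairExists
import Groth.Agent.H12AlgSp.UnivInj
import Groth.Agent.H18Descent.Basic
import Groth.Agent.H11Ample.ImmersionPn
import Groth.Agent.H11Ample.HQProj
import Groth.Agent.H27Weil.Geometry
import Groth.Agent.S4438
import Groth.Agent.S9716
import Mathlib.RingTheory.Jacobson.Ring

/-!
# Quasi-projectivity descends along field extensions
-/

set_option autoImplicit false
set_option linter.style.haveILetI false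
set_option backward.isDefEq.respectTransparency false
set_option backward.defeqAttrib.useBackward true
universe u

open CategoryTheory CategoryTheory.Limits AlgebraicGeometry

namespace Groth.Agent.H8Props.ProjFieldDescent

theorem isQuasiAffine_of_isImmersion {X Y : Scheme.{u}} (i : X ⟶ Y) [IsImmersion i] [QuasiCompact i] :
    Mor2.IsQuasiAffine i := by
  refine ⟨inferInstance, fun V hV => ?_⟩
  haveI : CompactSpace (i ⁻¹ᵁ V).toScheme :=
    isCompact_iff_compactSpace.1 (QuasiCompact.isCompact_preimage _ V.isOpen hV.isCompact)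
  haveI : IsAffine V.toScheme := hV
  haveI : IsImmersion (i ∣_ V) := IsZariskiLocalAtTarget.restrict (P := @IsImmersion) inferInstance _
  exact Scheme.IsQuasiAffine.of_isImmersion (i ∣_ V)

/-- `X` is quasi-compact and of finite type over `k`, and has an ample invertible module. -/
theorem exists_isAmple {k : Type u} [Field k] {X : Scheme.{u}}
    (p : X ⟶ Spec (CommRingCat.of k)) (K : Type u) [Field K] [Algebra k K] (n : ℕ)
    (i : pullback p (Spec.map (CommRingCat.ofHom (algebraMap k K))) ⟶ CohB1.ProjSpaceOver n (Spec (CommRingCat.of K)))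
    [IsImmersion i]
    (hi : i ≫ CohB1.ProjSpaceOver.toBase n (Spec (CommRingCat.of K)) = pullback.snd p (Spec.map (CommRingCat.ofHom (algebraMap k K)))) :
    LocallyOfFiniteType p ∧ QuasiCompact p ∧ ∃ L : X.Modules, CohB1.IsAmple L := by
  let t : Spec (CommRingCat.of K) ⟶ Spec (CommRingCat.of k) := Spec.map (CommRingCat.ofHom (algebraMap k K))
  haveI : Surjective t := H17.ConsProp.surjective_of_subsingleton t
  haveI : Flat t := by
    rw [HasRingHomProperty.Spec_iff (P := @Flat)]
    show (algebraMap k K).Flat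
    rw [RingHom.flat_algebraMap_iff]
    infer_instance
  haveI : QuasiCompact t := inferInstance
  have ht : H18Descent.fpqc t := ⟨⟨inferInstance, inferInstance⟩, inferInstance⟩
  let P := CohB1.ProjSpaceOver n (Spec (CommRingCat.of K))
  let q : P ⟶ Spec (CommRingCat.of K) := CohB1.ProjSpaceOver.toBase n _
  haveI : LocallyOfFiniteType q :=
    MorphismProperty.pullback_snd _ _ ((inferInstance : IsProper (CohB1.ProjSpace.toSpec n (ULift.{u} ℤ))).toLocallyOfFiniteType)
  haveI : QuasiCompact q :=
    MorphismProperty.pullback_snd _ _ (inferInstance : QuasiCompact (CohB1.ProjSpace.toSpec n (ULift.{u} ℤ)))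
  haveI : IsLocallyNoetherian P := LocallyOfFiniteType.isLocallyNoetherian q
  haveI : CompactSpace P := QuasiCompact.compactSpace_of_compactSpace q
  haveI : IsNoetherian P := ⟨⟩
  haveI : TopologicalSpace.NoetherianSpace ↥(pullback p t) := i.isEmbedding.isInducing.noetherianSpace
  haveI : QuasiCompact i := inferInstance
  haveI : LocallyOfFiniteType (pullback.snd p t) := by rw [← hi]; infer_instance
  haveI : QuasiCompact (pullback.snd p t) := by rw [← hi]; infer_instance
  haveI hft : LocallyOfFiniteType p := by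
    haveI : MorphismProperty.DescendsAlong @LocallyOfFiniteType H18Descent.fpqc.{u} :=
      inferInstanceAs (MorphismProperty.DescendsAlong @LocallyOfFiniteType (@Surjective ⊓ @Flat ⊓ @QuasiCompact))
    exact MorphismProperty.of_pullback_snd_of_descendsAlong (P := @LocallyOfFiniteType) (Q := H18Descent.fpqc) ht inferInstance
  haveI hqc : QuasiCompact p :=
    MorphismProperty.of_pullback_snd_of_descendsAlong (P := @QuasiCompact) (Q := H18Descent.fpqc) ht inferInstance
  refine ⟨hft, hqc, ?_⟩
  haveI : LocallyOfFinitePresentation p := H12AlgSp.lfp_of_lft_of_isLocallyNoetherian p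
  haveI : QuasiSeparated p := by
    haveI : IsLocallyNoetherian X := LocallyOfFiniteType.isLocallyNoetherian p
    infer_instance
  let c := H17.ConsPair.specCone k K
  have hc : IsLimit c := H17.ConsPair.isLimitSpecCone k K
  haveI : ∀ i, CompactSpace ((H17.ConsPair.specSystem k K).obj i) := fun i => inferInstance
  haveI : ∀ i, QuasiSeparatedSpace ((H17.ConsPair.specSystem k K).obj i) := fun i => inferInstance
  haveI : Nonempty (Finset K) := ⟨∅⟩
  let i₀ : (Finset K)ᵒᵖ := Opposite.op ∅
  let st := (H17.ConsPair.specStr k K).app i₀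
  have hst : c.π.app i₀ ≫ st = t := H17.ConsPair.specCone_str k K i₀
  let M : H7Lim.FPDescent.Model c (pullback.snd p t) i₀ :=
    { P := pullback p st, p := pullback.snd p st, lfp := MorphismProperty.pullback_snd _ _ ‹_›,
      qc := MorphismProperty.pullback_snd _ _ ‹_›, qs := MorphismProperty.pullback_snd _ _ ‹_›,
      g := pullback.lift (pullback.fst p t) (pullback.snd p t ≫ c.π.app i₀)
        (by rw [Category.assoc, hst]; exact pullback.condition),
      hpb := by
        refine IsPullback.of_right (h₁₂ := pullback.fst p st) (h₂₂ := st) (v₁₃ := p) ?_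
          (pullback.lift_snd _ _ _) (IsPullback.of_hasPullback p st)
        rw [pullback.lift_fst, hst]
        exact IsPullback.of_hasPullback p t }
  haveI : IsNoetherianRing (ULift.{u} ℤ) := isNoetherianRing_of_ringEquiv ℤ ULift.ringEquiv.symm
  let N : H7Lim.FPDescent.Model c q i₀ :=
    { P := CohB1.ProjSpaceOver n ((H17.ConsPair.specSystem k K).obj i₀), p := CohB1.ProjSpaceOver.toBase n _,
      lfp := MorphismProperty.pullback_snd _ _ (H12AlgSp.lfp_of_lft_of_isLocallyNoetherian (CohB1.ProjSpace.toSpec n _)),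
      qc := MorphismProperty.pullback_snd _ _ (inferInstance : QuasiCompact (CohB1.ProjSpace.toSpec n (ULift.{u} ℤ))),
      qs := MorphismProperty.pullback_snd _ _ (inferInstance : QuasiSeparated (CohB1.ProjSpace.toSpec n (ULift.{u} ℤ))),
      g := pullback.lift (pullback.fst _ _) (q ≫ c.π.app i₀)
        (specULiftZIsTerminal.hom_ext _ _),
      hpb := by
        refine IsPullback.of_right (h₁₂ := pullback.fst _ _) (h₂₂ := specULiftZIsTerminal.from _)
          (v₁₃ := CohB1.ProjSpace.toSpec n _) ?_ (pullback.lift_snd _ _ _) (IsPullback.of_hasPullback _ _)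
        rw [pullback.lift_fst, specULiftZIsTerminal.hom_ext (c.π.app i₀ ≫ specULiftZIsTerminal.from _)
          (specULiftZIsTerminal.from _)]
        exact IsPullback.of_hasPullback _ _ }
  obtain ⟨j, φ, ⟨F⟩⟩ := H7Lim.FPDescent.exists_hom hc M N i hi
  let proj : (N.shift φ).P ⟶ CohB1.ProjSpace n (ULift.{u} ℤ) :=
    pullback.fst N.p _ ≫ pullback.fst (CohB1.ProjSpace.toSpec n (ULift.{u} ℤ)) _
  let T := Twist.twistProjSpace n (ULift.{u} ℤ) 1
  let L₀ := (Scheme.Modules.pullback (F.o ≫ proj)).obj T
  have hK := H11Ample.isRelAmple_twistOver n (Spec (CommRingCat.of K))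
  have hL₀ : PicF.IsInvertible L₀ := H11Ample.isInvertible_pullback _
    (H11Ample.isAmple_twistProjSpace n (ULift.{u} ℤ)).1
  have hcomp : (M.shift φ).g ≫ F.o ≫ proj = i ≫ pullback.fst _ _ := by
    rw [← Category.assoc, F.w_g, Category.assoc]
    simp [proj, N, H7Lim.FPDescent.Model.shift]
  have hlim : RelAmple.IsRelAmple (pullback.snd p t) ((Scheme.Modules.pullback (M.shift φ).g).obj L₀) := by
    have h0 := H11Ample.isRelAmple_pullback_of_isQuasiAffine (isQuasiAffine_of_isImmersion i) hK
    rw [hi] at h0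
    exact H11Ample.isRelAmple_iff.2 ⟨h0.1, fun V hV => H11Ample.isAmple_of_iso
      ((Scheme.Modules.pullback _).mapIso (((Scheme.Modules.pullbackComp i _).app T) ≪≫
        (Scheme.Modules.pullbackCongr hcomp.symm).app T ≪≫ ((Scheme.Modules.pullbackComp _ _).app T).symm))
      ((H11Ample.isRelAmple_iff.1 h0).2 V hV)⟩
  haveI : QuasiCompact ((M.shift φ).p ≫ 𝟙 _) := by rw [Category.comp_id]; exact (M.shift φ).qc
  haveI : QuasiSeparated ((M.shift φ).p ≫ 𝟙 _) := by rw [Category.comp_id]; exact (M.shift φ).qs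
  obtain ⟨l, ψ, Xl, Yl, fl, gl, pY, pX, hYl, hXl, hl⟩ :=
    (H7Lim.RelAmpleDescent.isRelAmple_iff_eventually (H17.ConsPair.specSystem k K) c hc j (M.shift φ).p (𝟙 _)
      L₀ hL₀ (pullback.snd p t) (𝟙 _) (c.π.app j) (M.shift φ).g
      (IsPullback.of_vert_isIso ⟨by simp⟩) (M.shift φ).hpb).1 hlim
  haveI : IsIso gl := by
    rw [← hYl.isoPullback_hom_snd]
    infer_instance
  haveI : IsAffine Yl := IsAffine.of_isIso gl
  haveI : QuasiCompact fl := hl.1
  have hampl : CohB1.IsAmple ((Scheme.Modules.pullback pX).obj L₀) :=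
    H11Ample.isRelAmple_iff_isAmple_of_isAffine.1 hl
  let sl := (H17.ConsPair.specStr k K).app l
  have hs : (H17.ConsPair.specSystem k K).map ψ ≫ (H17.ConsPair.specSystem k K).map φ ≫ st = sl := by
    rw [← Category.assoc, ← Functor.map_comp]
    exact ((H17.ConsPair.specStr k K).naturality (ψ ≫ φ)).trans (Category.comp_id _)
  have hXl' : IsPullback pX (fl ≫ gl) (M.shift φ).p ((H17.ConsPair.specSystem k K).map ψ) := by
    simpa using hXl.paste_vert hYl
  have hMl : IsPullback (pX ≫ pullback.fst _ _ ≫ pullback.fst p st) (fl ≫ gl) p sl :=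
    hs ▸ hXl'.paste_horiz ((IsPullback.of_hasPullback M.p _).paste_horiz (IsPullback.of_hasPullback p st))
  let A := Algebra.adjoin k (l.unop : Set K)
  haveI : Algebra.FiniteType k A := (Subalgebra.fg_iff_finiteType _).1 (Subalgebra.fg_adjoin_finset _)
  obtain ⟨m, hm⟩ := Ideal.exists_maximal A
  letI : Field (A ⧸ m) := Ideal.Quotient.field m
  haveI : Module.Finite k (A ⧸ m) := finite_of_finite_type_of_isJacobsonRing k _
  let r : Spec (CommRingCat.of (A ⧸ m)) ⟶ (H17.ConsPair.specSystem k K).obj l :=
    Spec.map (CommRingCat.ofHom (Ideal.Quotient.mk m))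
  let t' : Spec (CommRingCat.of (A ⧸ m)) ⟶ Spec (CommRingCat.of k) :=
    Spec.map (CommRingCat.ofHom (algebraMap k (A ⧸ m)))
  have hr : r ≫ sl = t' := by
    show Spec.map _ ≫ Spec.map _ = _
    rw [← Spec.map_comp]
    rfl
  let g := pullback.fst (fl ≫ gl) r ≫ pX ≫ pullback.fst _ _ ≫ pullback.fst p st
  have hg : IsPullback g (pullback.snd (fl ≫ gl) r) p t' :=
    hr ▸ (IsPullback.of_hasPullback (fl ≫ gl) r).paste_horiz hMl
  haveI : IsFinite t' := by
    rw [IsFinite.SpecMap_iff]
    exact RingHom.finite_algebraMap.2 inferInstance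
  haveI : Flat t' := by
    rw [HasRingHomProperty.Spec_iff (P := @Flat)]
    show (algebraMap k (A ⧸ m)).Flat
    rw [RingHom.flat_algebraMap_iff]
    infer_instance
  haveI : Surjective t' := H17.ConsProp.surjective_of_subsingleton t'
  haveI : LocallyOfFinitePresentation t' := H12AlgSp.lfp_of_lft_of_isLocallyNoetherian t'
  haveI : IsFinite g := MorphismProperty.of_isPullback hg.flip ‹IsFinite t'›
  haveI : Flat g := MorphismProperty.of_isPullback hg.flip ‹Flat t'›
  haveI : Surjective g := MorphismProperty.of_isPullback hg.flip ‹Surjective t'›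
  haveI : LocallyOfFinitePresentation g := MorphismProperty.of_isPullback hg.flip ‹LocallyOfFinitePresentation t'›
  have hfree : FlatMod.IsFinLocFree ((Coh.push g).obj (Coh.structureModule (pullback (fl ≫ gl) r))) :=
    ((Groth.Agent.S9716.result g).2 ⟨inferInstance, inferInstance, inferInstance⟩).2
  haveI : IsAffineHom r := isAffineHom_of_isAffine r
  haveI : IsAffineHom (pullback.fst (fl ≫ gl) r) := MorphismProperty.pullback_fst _ _ ‹IsAffineHom r›
  have hamp' := H11Ample.isAmple_pullback_of_isAffineHom (pullback.fst (fl ≫ gl) r) hampl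
  obtain ⟨L, -, hL⟩ := (Groth.Agent.S4438.result p g hfree).2 ⟨_, hamp'.1,
    H11Ample.isRelAmple_iff_isAmple_of_isAffine.2 hamp'⟩
  exact ⟨L, H11Ample.isRelAmple_iff_isAmple_of_isAffine.1 hL⟩

/-- Quasi-projectivity descends. -/
theorem exists_immersion {k : Type u} [Field k] {X : Scheme.{u}}
    (p : X ⟶ Spec (CommRingCat.of k)) (K : Type u) [Field K] [Algebra k K] (n : ℕ)
    (i : pullback p (Spec.map (CommRingCat.ofHom (algebraMap k K))) ⟶ CohB1.ProjSpaceOver n (Spec (CommRingCat.of K)))
    [IsImmersion i]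
    (hi : i ≫ CohB1.ProjSpaceOver.toBase n (Spec (CommRingCat.of K)) = pullback.snd p (Spec.map (CommRingCat.ofHom (algebraMap k K)))) :
    ∃ (m : ℕ) (j : X ⟶ CohB1.ProjSpaceOver m (Spec (CommRingCat.of k))),
      IsImmersion j ∧ j ≫ CohB1.ProjSpaceOver.toBase m (Spec (CommRingCat.of k)) = p := by
  obtain ⟨hft, hqc, L, hL⟩ := exists_isAmple p K n i hi
  haveI := hft
  haveI : CompactSpace X := hL.2.1
  haveI := H11Ample.quasiSeparatedSpace_of_isAmple hL
  exact H11Ample.exists_immersion_projSpaceOver p hL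

/-- Projectivity descends. -/
theorem exists_closedImmersion {k : Type u} [Field k] {X : Scheme.{u}}
    (p : X ⟶ Spec (CommRingCat.of k)) (K : Type u) [Field K] [Algebra k K] (n : ℕ)
    (i : pullback p (Spec.map (CommRingCat.ofHom (algebraMap k K))) ⟶ CohB1.ProjSpaceOver n (Spec (CommRingCat.of K)))
    [IsClosedImmersion i]
    (hi : i ≫ CohB1.ProjSpaceOver.toBase n (Spec (CommRingCat.of K)) = pullback.snd p (Spec.map (CommRingCat.ofHom (algebraMap k K)))) :
    ∃ (m : ℕ) (j : X ⟶ CohB1.ProjSpaceOver m (Spec (CommRingCat.of k))),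
      IsClosedImmersion j ∧ j ≫ CohB1.ProjSpaceOver.toBase m (Spec (CommRingCat.of k)) = p := by
  obtain ⟨m, j, hj, hjp⟩ := exists_immersion p K n i hi
  let t : Spec (CommRingCat.of K) ⟶ Spec (CommRingCat.of k) := Spec.map (CommRingCat.ofHom (algebraMap k K))
  haveI : Surjective t := H17.ConsProp.surjective_of_subsingleton t
  haveI : Flat t := by
    rw [HasRingHomProperty.Spec_iff (P := @Flat)]
    show (algebraMap k K).Flat
    rw [RingHom.flat_algebraMap_iff]
    infer_instance
  have ht : H18Descent.fpqc t := ⟨⟨inferInstance, inferInstance⟩, inferInstance⟩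
  haveI : ∀ (d : ℕ) (S : Scheme.{u}), IsProper (CohB1.ProjSpaceOver.toBase d S) := fun d S =>
    MorphismProperty.pullback_snd _ _ (inferInstance : IsProper (CohB1.ProjSpace.toSpec d (ULift.{u} ℤ)))
  have hK : IsProper (pullback.snd p t) := by rw [← hi]; infer_instance
  haveI : IsProper p :=
    MorphismProperty.of_pullback_snd_of_descendsAlong (P := @IsProper) (Q := H18Descent.fpqc) ht hK
  haveI : IsProper (j ≫ CohB1.ProjSpaceOver.toBase m (Spec (CommRingCat.of k))) := by rw [hjp]; infer_instance
  haveI : IsProper j := IsProper.of_comp j (CohB1.ProjSpaceOver.toBase m (Spec (CommRingCat.of k)))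
  exact ⟨m, j, .of_isPreimmersion j j.isClosedMap.isClosed_range, hjp⟩

end Groth.Agent.H8Props.ProjFieldDescent
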